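import Mathlib

/-!
# BG Appendix C, Lemma C.3, step (3): planar triangles are canonical (helper21)

`Q` an abelian `p'`-subgroup of `G`, `y ∈ Q`, `s` normalizing `Q` with `s ^ p = 1`,
`t = y s y⁻¹`.  If `X₂ ^ k2 * X₁ ^ k1 = X₃ ^ k3` with `Xᵢ = tⁱ s t⁻ⁱ`, i.e.
`s ^ k2 * t⁻¹ * s ^ k1 * t ^ 2 * s ^ (-k3) * t⁻¹ = 1`, then
`t ^ k3 * s ^ (-1 - k1) * t ^ k1 = s ^ (k3 - 1)` (`planar_N`), and with "Lemma S"
(`t ^ a * s ^ b * t ^ c ∈ H`, `p ∤ a` implies `p ∣ b`) the classes are canonical: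
`k1 ≡ -1`, `k3 ≡ 1` modulo `p` (`planar_classes`).
-/

set_option autoImplicit false
set_option linter.unusedSimpArgs false
set_option linter.unusedVariables false

namespace Cfsg.Agent.Lib.Helper21.AppC

section Planar

variable {G : Type*} [Group G]

/-- `s ^ j * y * (s ^ j)⁻¹`. -/
def cjz (s y : G) (j : ℤ) : G := s ^ j * y * (s ^ j)⁻¹

theorem cjz_mem (Q : Subgroup G) (s y : G) (hy : y ∈ Q) (hsQ : ∀ a ∈ Q, s * a * s⁻¹ ∈ Q)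
    (hsQ' : ∀ a ∈ Q, s⁻¹ * a * s ∈ Q) (j : ℤ) : cjz s y j ∈ Q := by
  unfold cjz
  induction j using Int.induction_on with
  | zero => simpa using hy
  | succ i ih =>
    have h := hsQ _ ih
    convert h using 1
    group
  | pred i ih =>
    have h := hsQ' _ ih
    convert h using 1
    group

/-- The exponent relation: `s ^ (k2 + k1 - k3) = 1`. -/
theorem planar_exp (p : ℕ) (Q : Subgroup G) (s y : G)
    (hQp : ∀ a ∈ Q, a ^ p = 1 → a = 1) (hy : y ∈ Q)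
    (hsQ : ∀ a ∈ Q, s * a * s⁻¹ ∈ Q) (hsQ' : ∀ a ∈ Q, s⁻¹ * a * s ∈ Q) (hsp : s ^ p = 1)
    (k1 k2 k3 : ℤ)
    (hR : s ^ k2 * (y * s * y⁻¹)⁻¹ * s ^ k1 * (y * s * y⁻¹) ^ 2 * s ^ (-k3) * (y * s * y⁻¹)⁻¹ = 1) :
    s ^ (k2 + k1 - k3) = 1 := by
  have hm : ∀ j, cjz s y j ∈ Q := cjz_mem Q s y hy hsQ hsQ'
  have hF1 : s ^ k2 * (y * s * y⁻¹)⁻¹ * s ^ k1 * (y * s * y⁻¹) ^ 2 * s ^ (-k3) * (y * s * y⁻¹)⁻¹ =
      cjz s y k2 * (cjz s y (k2 - 1))⁻¹ * cjz s y (k2 - 1 + k1) * (cjz s y (k2 + 1 + k1))⁻¹ *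
        cjz s y (k2 + 1 + k1 - k3) * (cjz s y (k2 + k1 - k3))⁻¹ * s ^ (k2 + k1 - k3) := by
    unfold cjz
    rw [conj_pow]
    group
  have hqmem : cjz s y k2 * (cjz s y (k2 - 1))⁻¹ * cjz s y (k2 - 1 + k1) *
      (cjz s y (k2 + 1 + k1))⁻¹ * cjz s y (k2 + 1 + k1 - k3) * (cjz s y (k2 + k1 - k3))⁻¹ ∈ Q :=
    Q.mul_mem (Q.mul_mem (Q.mul_mem (Q.mul_mem (Q.mul_mem (hm _) (Q.inv_mem (hm _))) (hm _))
      (Q.inv_mem (hm _))) (hm _)) (Q.inv_mem (hm _))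
  rw [hF1] at hR
  have h1 := eq_inv_of_mul_eq_one_right hR
  have h2 : s ^ (k2 + k1 - k3) ∈ Q := by
    rw [h1]
    exact Q.inv_mem hqmem
  apply hQp _ h2
  rw [← zpow_natCast, ← zpow_mul, mul_comm, zpow_mul, zpow_natCast, hsp, one_zpow]

/-- The case `k2 = k3 - k1`. -/
theorem planar_N0 (p : ℕ) (Q : Subgroup G) (s y : G)
    (hQc : ∀ a ∈ Q, ∀ b ∈ Q, a * b = b * a) (hQp : ∀ a ∈ Q, a ^ p = 1 → a = 1) (hy : y ∈ Q)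
    (hsQ : ∀ a ∈ Q, s * a * s⁻¹ ∈ Q) (hsQ' : ∀ a ∈ Q, s⁻¹ * a * s ∈ Q) (hsp : s ^ p = 1)
    (k1 k3 : ℤ)
    (hR : s ^ (k3 - k1) * (y * s * y⁻¹)⁻¹ * s ^ k1 * (y * s * y⁻¹) ^ 2 * s ^ (-k3) *
      (y * s * y⁻¹)⁻¹ = 1) :
    (y * s * y⁻¹) ^ k3 * s ^ (-1 - k1) * (y * s * y⁻¹) ^ k1 = s ^ (k3 - 1) := by
  classical
  have hm : ∀ j, cjz s y j ∈ Q := cjz_mem Q s y hy hsQ hsQ'
  letI : CommGroup Q :=
    { (inferInstance : Group Q) with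
      mul_comm := fun a b => Subtype.ext (hQc a a.2 b b.2) }
  -- the relation, conjugated by `s ^ i`
  have hqi : ∀ i : ℤ, cjz s y (k3 - k1 + i) * (cjz s y (k3 - k1 - 1 + i))⁻¹ *
      cjz s y (k3 - 1 + i) * (cjz s y (k3 + 1 + i))⁻¹ * cjz s y (1 + i) * (cjz s y i)⁻¹ = 1 := by
    intro i
    have h1 : cjz s y (k3 - k1 + i) * (cjz s y (k3 - k1 - 1 + i))⁻¹ *
        cjz s y (k3 - 1 + i) * (cjz s y (k3 + 1 + i))⁻¹ * cjz s y (1 + i) * (cjz s y i)⁻¹ =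
        s ^ i * (s ^ (k3 - k1) * (y * s * y⁻¹)⁻¹ * s ^ k1 * (y * s * y⁻¹) ^ 2 * s ^ (-k3) *
          (y * s * y⁻¹)⁻¹) * (s ^ i)⁻¹ := by
      unfold cjz
      rw [conj_pow]
      group
    rw [h1, hR, mul_one, mul_inv_cancel]
  -- additive notation
  obtain ⟨Ya, hYa⟩ : ∃ Ya : ℤ → Additive Q,
      ∀ j, Ya j = Additive.ofMul (⟨cjz s y j, hm j⟩ : Q) := ⟨_, fun _ => rfl⟩
  have hqa : ∀ i : ℤ, Ya (k3 - k1 + i) + -Ya (k3 - k1 - 1 + i) + Ya (k3 - 1 + i) +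
      -Ya (k3 + 1 + i) + Ya (1 + i) + -Ya i = 0 := by
    intro i
    simp only [hYa]
    have h1 : (⟨cjz s y (k3 - k1 + i), hm _⟩ * (⟨cjz s y (k3 - k1 - 1 + i), hm _⟩ : Q)⁻¹ *
        ⟨cjz s y (k3 - 1 + i), hm _⟩ * (⟨cjz s y (k3 + 1 + i), hm _⟩ : Q)⁻¹ *
        ⟨cjz s y (1 + i), hm _⟩ * (⟨cjz s y i, hm _⟩ : Q)⁻¹ : Q) = 1 :=
      Subtype.ext (hqi i)
    exact congrArg Additive.ofMul h1
  have hper : ∀ j : ℤ, Ya (j + p) = Ya j := by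
    intro j
    simp only [hYa]
    congr 2
    unfold cjz
    rw [zpow_add, zpow_natCast, hsp, mul_one]
  -- the orbit sums
  obtain ⟨T, hT⟩ : ∃ T : ℤ → Additive Q,
      ∀ a, T a = ∑ i ∈ Finset.range p, Ya (a + (i : ℤ)) := ⟨_, fun _ => rfl⟩
  have hT1 : ∀ a : ℤ, T (a + 1) = T a := by
    intro a
    have h1 := Finset.sum_range_succ' (fun i : ℕ => Ya (a + (i : ℤ))) p
    have h2 := Finset.sum_range_succ (fun i : ℕ => Ya (a + (i : ℤ))) p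
    rw [h2] at h1
    simp only [Nat.cast_zero, add_zero] at h1
    rw [hper a] at h1
    have h3 := add_right_cancel h1
    rw [hT, hT, h3]
    refine Finset.sum_congr rfl (fun i _ => ?_)
    congr 1
    push_cast
    ring
  have hT0 : ∀ a : ℤ, T a = T 0 := by
    intro a
    induction a using Int.induction_on with
    | zero => rfl
    | succ i ih => rw [hT1, ih]
    | pred i ih =>
      have h := hT1 (-(i : ℤ) - 1)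
      rw [sub_add_cancel] at h
      rw [← h, ih]
  -- the element `N'`
  obtain ⟨xa, hxa⟩ : ∃ xa : ℤ → Additive Q, ∀ i, xa i =
      Ya (0 + i) + -Ya (k3 + i) + Ya (k3 - k1 - 1 + i) + -Ya (k3 - 1 + i) := ⟨_, fun _ => rfl⟩
  have hx1 : ∀ i : ℤ, xa (i + 1) = xa i := by
    intro i
    have h := hqa i
    rw [hxa, hxa]
    have e1 : (0 : ℤ) + (i + 1) = 1 + i := by ring
    have e2 : k3 + (i + 1) = k3 + 1 + i := by ring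
    have e3 : k3 - k1 - 1 + (i + 1) = k3 - k1 + i := by ring
    have e4 : k3 - 1 + (i + 1) = k3 + i := by ring
    have e5 : (0 : ℤ) + i = i := by ring
    rw [e1, e2, e3, e4, e5]
    have h' : Ya (1 + i) + -Ya (k3 + 1 + i) + Ya (k3 - k1 + i) + -Ya (k3 + i) -
        (Ya i + -Ya (k3 + i) + Ya (k3 - k1 - 1 + i) + -Ya (k3 - 1 + i)) =
        Ya (k3 - k1 + i) + -Ya (k3 - k1 - 1 + i) + Ya (k3 - 1 + i) +
          -Ya (k3 + 1 + i) + Ya (1 + i) + -Ya i := by abel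
    rw [h] at h'
    exact sub_eq_zero.1 h'
  have hxi : ∀ i : ℕ, xa (i : ℤ) = xa 0 := by
    intro i
    induction i with
    | zero => rfl
    | succ i ih =>
      rw [Nat.cast_succ, hx1, ih]
  have hsum : (p : ℕ) • xa 0 = 0 := by
    have h1 : ∑ i ∈ Finset.range p, xa (i : ℤ) = p • xa 0 := by
      rw [Finset.sum_congr rfl (fun i _ => hxi i), Finset.sum_const, Finset.card_range]
    have h2 : ∑ i ∈ Finset.range p, xa (i : ℤ) =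
        T 0 + -T k3 + T (k3 - k1 - 1) + -T (k3 - 1) := by
      simp only [hxa, hT, Finset.sum_add_distrib, Finset.sum_neg_distrib]
    rw [← h1, h2, hT0 k3, hT0 (k3 - k1 - 1), hT0 (k3 - 1)]
    abel
  -- back to the group
  have hxmem : cjz s y 0 * (cjz s y k3)⁻¹ * cjz s y (k3 - k1 - 1) * (cjz s y (k3 - 1))⁻¹ ∈ Q :=
    Q.mul_mem (Q.mul_mem (Q.mul_mem (hm _) (Q.inv_mem (hm _))) (hm _)) (Q.inv_mem (hm _))
  have hx0 : xa 0 = Additive.ofMul (⟨cjz s y 0 * (cjz s y k3)⁻¹ * cjz s y (k3 - k1 - 1) *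
      (cjz s y (k3 - 1))⁻¹, hxmem⟩ : Q) := by
    rw [hxa]
    simp only [add_zero, hYa]
    rfl
  have hxp : (cjz s y 0 * (cjz s y k3)⁻¹ * cjz s y (k3 - k1 - 1) * (cjz s y (k3 - 1))⁻¹) ^ p
      = 1 := by
    rw [hx0] at hsum
    have h1 : ((⟨cjz s y 0 * (cjz s y k3)⁻¹ * cjz s y (k3 - k1 - 1) *
      (cjz s y (k3 - 1))⁻¹, hxmem⟩ : Q)) ^ p = 1 := hsum
    exact congrArg Subtype.val h1
  have hx := hQp _ hxmem hxp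
  have hF2 : (y * s * y⁻¹) ^ k3 * s ^ (-1 - k1) * (y * s * y⁻¹) ^ k1 * s ^ (1 - k3) =
      cjz s y 0 * (cjz s y k3)⁻¹ * cjz s y (k3 - k1 - 1) * (cjz s y (k3 - 1))⁻¹ := by
    rw [conj_zpow, conj_zpow]
    unfold cjz
    group
  rw [← hF2] at hx
  have h3 := eq_inv_of_mul_eq_one_left hx
  rw [h3, ← zpow_neg, neg_sub]

/-- **Planar relations in `⟨s, t⟩`**: if `X₂ ^ k2 * X₁ ^ k1 = X₃ ^ k3` (`Xᵢ = tⁱ s t⁻ⁱ`,
`t = y s y⁻¹`), written as `s ^ k2 * t⁻¹ * s ^ k1 * t ^ 2 * s ^ (-k3) * t⁻¹ = 1`, then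
`t ^ k3 * s ^ (-1 - k1) * t ^ k1 = s ^ (k3 - 1)`. -/
theorem planar_N (p : ℕ) (Q : Subgroup G) (s y : G)
    (hQc : ∀ a ∈ Q, ∀ b ∈ Q, a * b = b * a) (hQp : ∀ a ∈ Q, a ^ p = 1 → a = 1) (hy : y ∈ Q)
    (hsQ : ∀ a ∈ Q, s * a * s⁻¹ ∈ Q) (hsQ' : ∀ a ∈ Q, s⁻¹ * a * s ∈ Q) (hsp : s ^ p = 1)
    (k1 k2 k3 : ℤ)
    (hR : s ^ k2 * (y * s * y⁻¹)⁻¹ * s ^ k1 * (y * s * y⁻¹) ^ 2 * s ^ (-k3) * (y * s * y⁻¹)⁻¹ = 1) :
    (y * s * y⁻¹) ^ k3 * s ^ (-1 - k1) * (y * s * y⁻¹) ^ k1 = s ^ (k3 - 1) := by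
  have he := planar_exp p Q s y hQp hy hsQ hsQ' hsp k1 k2 k3 hR
  have hk : s ^ k2 = s ^ (k3 - k1) := by
    calc s ^ k2 = s ^ ((k3 - k1) + (k2 + k1 - k3)) := by
          congr 1
          ring
      _ = s ^ (k3 - k1) := by rw [zpow_add, he, mul_one]
  rw [hk] at hR
  exact planar_N0 p Q s y hQc hQp hy hsQ hsQ' hsp k1 k3 hR

/-- `planar_N` with the relation in the form `X₂ ^ k2 * X₁ ^ k1 = X₃ ^ k3`. -/
theorem planar_N' (p : ℕ) (Q : Subgroup G) (s y t : G) (ht : t = y * s * y⁻¹)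
    (hQc : ∀ a ∈ Q, ∀ b ∈ Q, a * b = b * a) (hQp : ∀ a ∈ Q, a ^ p = 1 → a = 1) (hy : y ∈ Q)
    (hsQ : ∀ a ∈ Q, s * a * s⁻¹ ∈ Q) (hsQ' : ∀ a ∈ Q, s⁻¹ * a * s ∈ Q) (hsp : s ^ p = 1)
    (k1 k2 k3 : ℤ)
    (hX : t ^ (2 : ℤ) * s ^ k2 * t ^ (-2 : ℤ) * (t * s ^ k1 * t⁻¹) =
      t ^ (3 : ℤ) * s ^ k3 * t ^ (-3 : ℤ)) :
    t ^ k3 * s ^ (-1 - k1) * t ^ k1 = s ^ (k3 - 1) := by
  have hR : s ^ k2 * t⁻¹ * s ^ k1 * t ^ 2 * s ^ (-k3) * t⁻¹ = 1 := by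
    have h1 : s ^ k2 * t⁻¹ * s ^ k1 * t ^ 2 * s ^ (-k3) * t⁻¹ =
        t ^ (-2 : ℤ) * (t ^ (2 : ℤ) * s ^ k2 * t ^ (-2 : ℤ) * (t * s ^ k1 * t⁻¹)) * t ^ (3 : ℤ) *
          s ^ (-k3) * t⁻¹ := by group
    rw [h1, hX]
    group
  subst ht
  exact planar_N p Q s y hQc hQp hy hsQ hsQ' hsp k1 k2 k3 hR

/-- **Planar triangles are canonical**: with Lemma S (`t ^ a * s ^ b * t ^ c ∈ H` and `p ∤ a`
imply `p ∣ b`) and `t ^ j ∈ H → p ∣ j`, a planar relation `X₂ ^ k2 * X₁ ^ k1 = X₃ ^ k3` with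
`p ∤ k3` has `k1 ≡ -1` and `k3 ≡ 1` modulo `p`. -/
theorem planar_classes (p : ℕ) (Q : Subgroup G) (s y : G)
    (hQc : ∀ a ∈ Q, ∀ b ∈ Q, a * b = b * a) (hQp : ∀ a ∈ Q, a ^ p = 1 → a = 1) (hy : y ∈ Q)
    (hsQ : ∀ a ∈ Q, s * a * s⁻¹ ∈ Q) (hsQ' : ∀ a ∈ Q, s⁻¹ * a * s ∈ Q) (hsp : s ^ p = 1)
    (k1 k2 k3 : ℤ)
    (hR : s ^ k2 * (y * s * y⁻¹)⁻¹ * s ^ k1 * (y * s * y⁻¹) ^ 2 * s ^ (-k3) * (y * s * y⁻¹)⁻¹ = 1)
    (H : Subgroup G)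
    (hS : ∀ a b c : ℤ, (y * s * y⁻¹) ^ a * s ^ b * (y * s * y⁻¹) ^ c ∈ H → ¬ (p : ℤ) ∣ a →
      (p : ℤ) ∣ b)
    (htH : ∀ j : ℤ, (y * s * y⁻¹) ^ j ∈ H → (p : ℤ) ∣ j) (hsH : s ∈ H)
    (hk3 : ¬ (p : ℤ) ∣ k3) : (p : ℤ) ∣ k1 + 1 ∧ (p : ℤ) ∣ k3 - 1 := by
  have hN := planar_N p Q s y hQc hQp hy hsQ hsQ' hsp k1 k2 k3 hR
  have h1 : (y * s * y⁻¹) ^ k3 * s ^ (-1 - k1) * (y * s * y⁻¹) ^ k1 ∈ H := by
    rw [hN]
    exact H.zpow_mem hsH _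
  have h2 : (p : ℤ) ∣ -1 - k1 := hS k3 (-1 - k1) k1 h1 hk3
  have h3 : (p : ℤ) ∣ k1 + 1 := by
    have h4 : -1 - k1 = -(k1 + 1) := by ring
    rw [h4] at h2
    exact (dvd_neg.1 h2)
  have h5 : s ^ (-1 - k1) = 1 := by
    obtain ⟨m, hm⟩ := h2
    rw [hm, zpow_mul, zpow_natCast, hsp, one_zpow]
  rw [h5, mul_one, ← zpow_add] at hN
  have h6 : (p : ℤ) ∣ k3 + k1 := by
    apply htH
    rw [hN]
    exact H.zpow_mem hsH _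
  refine ⟨h3, ?_⟩
  have h7 : k3 - 1 = (k3 + k1) - (k1 + 1) := by ring
  rw [h7]
  exact dvd_sub h6 h3

end Planar

end Cfsg.Agent.Lib.Helper21.AppC
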