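import Mathlib
import Cfsg.Agent.Lib.Helper21.AppC.Planar

/-!
# BG Appendix C, Lemma C.3, step (1): the relation `T₃` as a pure group identity (helper21)

`Q` an abelian subgroup of `G`, `y ∈ Q`, `s` normalizing `Q`, `t = y s y⁻¹`, `Xᵢ = tⁱ s t⁻ⁱ`.

* `comm_sym`: `tⁱ sᵏ t⁻ⁱ s⁻ᵏ = tᵏ sⁱ t⁻ᵏ s⁻ⁱ` (i.e. `Xᵢᵏ s⁻ᵏ = Xₖⁱ s⁻ⁱ`);
* `t3_rel`: if `v s v⁻¹ s⁻² = u s⁻¹ u⁻¹` (an `E`-pair) then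
  `(u X₂³ u⁻¹)(v X₂⁻¹ v⁻¹)(v X₁² v⁻¹) X₁⁻³ = (u X₃² u⁻¹) X₃⁻¹`.
-/

set_option autoImplicit false
set_option linter.unusedSimpArgs false
set_option linter.unusedVariables false

namespace Cfsg.Agent.Lib.Helper21.AppC

section T3

variable {G : Type*} [Group G]

/-- `tⁱ sᵏ t⁻ⁱ s⁻ᵏ = tᵏ sⁱ t⁻ᵏ s⁻ⁱ`. -/
theorem comm_sym (Q : Subgroup G) (s y : G) (hQc : ∀ a ∈ Q, ∀ b ∈ Q, a * b = b * a)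
    (hy : y ∈ Q) (hsQ : ∀ a ∈ Q, s * a * s⁻¹ ∈ Q) (hsQ' : ∀ a ∈ Q, s⁻¹ * a * s ∈ Q)
    (i k : ℤ) :
    (y * s * y⁻¹) ^ i * s ^ k * (y * s * y⁻¹) ^ (-i) * s ^ (-k) =
      (y * s * y⁻¹) ^ k * s ^ i * (y * s * y⁻¹) ^ (-k) * s ^ (-i) := by
  have hm : ∀ j, cjz s y j ∈ Q := cjz_mem Q s y hy hsQ hsQ'
  have h1 : ∀ a b : ℤ, (y * s * y⁻¹) ^ a * s ^ b * (y * s * y⁻¹) ^ (-a) * s ^ (-b) =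
      cjz s y 0 * ((cjz s y a)⁻¹ * cjz s y (a + b) * (cjz s y b)⁻¹) := by
    intro a b
    rw [conj_zpow, conj_zpow]
    unfold cjz
    group
  rw [h1 i k, h1 k i, add_comm k i]
  congr 1
  have hB : (cjz s y i)⁻¹ ∈ Q := Q.inv_mem (hm i)
  have hC : cjz s y (i + k) ∈ Q := hm _
  have hD : (cjz s y k)⁻¹ ∈ Q := Q.inv_mem (hm k)
  calc (cjz s y i)⁻¹ * cjz s y (i + k) * (cjz s y k)⁻¹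
      = (cjz s y k)⁻¹ * ((cjz s y i)⁻¹ * cjz s y (i + k)) :=
        hQc _ (Q.mul_mem hB hC) _ hD
    _ = (cjz s y k)⁻¹ * (cjz s y (i + k) * (cjz s y i)⁻¹) := by rw [hQc _ hB _ hC]
    _ = (cjz s y k)⁻¹ * cjz s y (i + k) * (cjz s y i)⁻¹ := by rw [mul_assoc]

/-- The relation `T₃`: for an `E`-pair `(u, v)` (`v s v⁻¹ s⁻² = u s⁻¹ u⁻¹`),
`(u X₂³ u⁻¹)(v X₂⁻¹ v⁻¹)(v X₁² v⁻¹) X₁⁻³ = (u X₃² u⁻¹) X₃⁻¹`. -/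
theorem t3_rel (Q : Subgroup G) (s y : G) (hQc : ∀ a ∈ Q, ∀ b ∈ Q, a * b = b * a)
    (hy : y ∈ Q) (hsQ : ∀ a ∈ Q, s * a * s⁻¹ ∈ Q) (hsQ' : ∀ a ∈ Q, s⁻¹ * a * s ∈ Q)
    (t : G) (ht : t = y * s * y⁻¹) (u v : G)
    (hE : v * s * v⁻¹ * s ^ (-2 : ℤ) = u * s⁻¹ * u⁻¹) :
    (u * (t ^ (2 : ℤ) * s ^ (3 : ℤ) * t ^ (-2 : ℤ)) * u⁻¹) *
        (v * (t ^ (2 : ℤ) * s⁻¹ * t ^ (-2 : ℤ)) * v⁻¹) *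
        (v * (t * s ^ (2 : ℤ) * t⁻¹) * v⁻¹) * (t * s ^ (-3 : ℤ) * t⁻¹) =
      (u * (t ^ (3 : ℤ) * s ^ (2 : ℤ) * t ^ (-3 : ℤ)) * u⁻¹) *
        (t ^ (3 : ℤ) * s⁻¹ * t ^ (-3 : ℤ)) := by
  have hs := fun i k : ℤ => comm_sym Q s y hQc hy hsQ hsQ' i k
  rw [← ht] at hs
  -- the three canonical relations
  have c1 : t ^ (2 : ℤ) * s⁻¹ * t ^ (-2 : ℤ) * (t * s ^ (2 : ℤ) * t⁻¹) = s := by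
    have e : t * s ^ (2 : ℤ) * t⁻¹ = t ^ (2 : ℤ) * s * t ^ (-2 : ℤ) * s := by
      calc t * s ^ (2 : ℤ) * t⁻¹
          = (t ^ (1 : ℤ) * s ^ (2 : ℤ) * t ^ (-1 : ℤ) * s ^ (-2 : ℤ)) * s ^ (2 : ℤ) := by group
        _ = (t ^ (2 : ℤ) * s ^ (1 : ℤ) * t ^ (-2 : ℤ) * s ^ (-1 : ℤ)) * s ^ (2 : ℤ) := by
          rw [hs 1 2]
        _ = t ^ (2 : ℤ) * s * t ^ (-2 : ℤ) * s := by group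
    rw [e]
    group
  have c2 : t * s ^ (-3 : ℤ) * t⁻¹ = s ^ (-2 : ℤ) * (t ^ (3 : ℤ) * s⁻¹ * t ^ (-3 : ℤ)) := by
    have e : t * s ^ (3 : ℤ) * t⁻¹ = t ^ (3 : ℤ) * s * t ^ (-3 : ℤ) * s ^ (2 : ℤ) := by
      calc t * s ^ (3 : ℤ) * t⁻¹
          = (t ^ (1 : ℤ) * s ^ (3 : ℤ) * t ^ (-1 : ℤ) * s ^ (-3 : ℤ)) * s ^ (3 : ℤ) := by group
        _ = (t ^ (3 : ℤ) * s ^ (1 : ℤ) * t ^ (-3 : ℤ) * s ^ (-1 : ℤ)) * s ^ (3 : ℤ) := by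
          rw [hs 1 3]
        _ = t ^ (3 : ℤ) * s * t ^ (-3 : ℤ) * s ^ (2 : ℤ) := by group
    calc t * s ^ (-3 : ℤ) * t⁻¹ = (t * s ^ (3 : ℤ) * t⁻¹)⁻¹ := by group
      _ = (t ^ (3 : ℤ) * s * t ^ (-3 : ℤ) * s ^ (2 : ℤ))⁻¹ := by rw [e]
      _ = s ^ (-2 : ℤ) * (t ^ (3 : ℤ) * s⁻¹ * t ^ (-3 : ℤ)) := by group
  have c3 : t ^ (2 : ℤ) * s ^ (3 : ℤ) * t ^ (-2 : ℤ) * s⁻¹ =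
      t ^ (3 : ℤ) * s ^ (2 : ℤ) * t ^ (-3 : ℤ) := by
    calc t ^ (2 : ℤ) * s ^ (3 : ℤ) * t ^ (-2 : ℤ) * s⁻¹
        = (t ^ (2 : ℤ) * s ^ (3 : ℤ) * t ^ (-2 : ℤ) * s ^ (-3 : ℤ)) * s ^ (2 : ℤ) := by group
      _ = (t ^ (3 : ℤ) * s ^ (2 : ℤ) * t ^ (-3 : ℤ) * s ^ (-2 : ℤ)) * s ^ (2 : ℤ) := by
        rw [hs 2 3]
      _ = t ^ (3 : ℤ) * s ^ (2 : ℤ) * t ^ (-3 : ℤ) := by group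
  calc (u * (t ^ (2 : ℤ) * s ^ (3 : ℤ) * t ^ (-2 : ℤ)) * u⁻¹) *
        (v * (t ^ (2 : ℤ) * s⁻¹ * t ^ (-2 : ℤ)) * v⁻¹) *
        (v * (t * s ^ (2 : ℤ) * t⁻¹) * v⁻¹) * (t * s ^ (-3 : ℤ) * t⁻¹)
      = (u * (t ^ (2 : ℤ) * s ^ (3 : ℤ) * t ^ (-2 : ℤ)) * u⁻¹) *
        (v * (t ^ (2 : ℤ) * s⁻¹ * t ^ (-2 : ℤ) * (t * s ^ (2 : ℤ) * t⁻¹)) * v⁻¹) *
        (t * s ^ (-3 : ℤ) * t⁻¹) := by group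
    _ = (u * (t ^ (2 : ℤ) * s ^ (3 : ℤ) * t ^ (-2 : ℤ)) * u⁻¹) * (v * s * v⁻¹) *
        (s ^ (-2 : ℤ) * (t ^ (3 : ℤ) * s⁻¹ * t ^ (-3 : ℤ))) := by rw [c1, c2]
    _ = (u * (t ^ (2 : ℤ) * s ^ (3 : ℤ) * t ^ (-2 : ℤ)) * u⁻¹) *
        (v * s * v⁻¹ * s ^ (-2 : ℤ)) * (t ^ (3 : ℤ) * s⁻¹ * t ^ (-3 : ℤ)) := by group
    _ = (u * (t ^ (2 : ℤ) * s ^ (3 : ℤ) * t ^ (-2 : ℤ)) * u⁻¹) *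
        (u * s⁻¹ * u⁻¹) * (t ^ (3 : ℤ) * s⁻¹ * t ^ (-3 : ℤ)) := by rw [hE]
    _ = (u * (t ^ (2 : ℤ) * s ^ (3 : ℤ) * t ^ (-2 : ℤ) * s⁻¹) * u⁻¹) *
        (t ^ (3 : ℤ) * s⁻¹ * t ^ (-3 : ℤ)) := by group
    _ = (u * (t ^ (3 : ℤ) * s ^ (2 : ℤ) * t ^ (-3 : ℤ)) * u⁻¹) *
        (t ^ (3 : ℤ) * s⁻¹ * t ^ (-3 : ℤ)) := by rw [c3]

end T3

end Cfsg.Agent.Lib.Helper21.AppC
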